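import Cfsg.Agent.SplitTwo.HexDefs

/-!
# `³D₄(2)`: the group `Q = X₂X₃X₄X₅X₆` of order `2 ^ 9` (helper809)

Over 808's hexagonal relations (`SplitTwo.HexRel`) with an automorphism `σ` of a field `E` of characteristic two with
fixed field `{0, 1}`:

* `Sys.FF t a b v u = x₂ t x₃ a x₅ b x₆ v x₄ u`, `Sys.FF_mul`, `Sys.FF_conj` (conjugation by `x₁ c`);
* `Sys.Q`, `Sys.card_Q`;
* **`Sys.irr`** : a subgroup `D ≤ Q` normalised by `X₁` and `w` (`x₂ 1 ↦ x₆ 1`) is in `⟨x₄ 1⟩` or equal to `Q`.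
-/

set_option autoImplicit false
set_option linter.unusedSectionVars false

namespace Cfsg.Agent.Omega.ML.Ex.DFour

open Subgroup Cfsg.Agent.SplitTwo

universe u v

/-- the situation -/
structure Sys {E : Type u} [Field E] (σ : E ≃+* E) {G : Type v} [Group G] (x1 x2 x3 x4 x5 x6 : E → G) : Prop where
  rel : HexRel σ x1 x2 x3 x4 x5 x6
  two : (2 : E) = 0
  f2 : ∀ t, σ t = t → t = 0 ∨ t = 1
  ne4 : x4 1 ≠ 1
  hne : ∃ d, σ d ≠ d

namespace Sys

variable {E : Type u} [Field E] {σ : E ≃+* E} {G : Type v} [Group G] {x1 x2 x3 x4 x5 x6 : E → G}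

theorem kk_iff {a b : G} : kk a b = 1 ↔ a * b = b * a := by
  rw [kk, mul_assoc, ← mul_inv_rev, inv_mul_eq_one]
  exact eq_comm

section

variable (S : Sys σ x1 x2 x3 x4 x5 x6)

include S

theorem neg_eq (a : E) : -a = a := by linear_combination (-a) * S.two

theorem aa (a : E) : a + a = 0 := by linear_combination a * S.two

theorem sg1 : σ (1 : E) = 1 := map_one σ

theorem ft (a b : E) : σ (trc σ a b) = trc σ a b := by
  simp only [trc, map_add, S.rel.cube]; ring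

theorem fn (a : E) : σ (nrm σ a) = nrm σ a := by
  simp only [nrm, map_mul, S.rel.cube]; ring

theorem fm {a b : E} (ha : σ a = a) (hb : σ b = b) : σ (a * b) = a * b := by rw [map_mul, ha, hb]

theorem fa {a b : E} (ha : σ a = a) (hb : σ b = b) : σ (a + b) = a + b := by rw [map_add, ha, hb]

theorem z1 : x1 0 = 1 := by
  have h := S.rel.add1 0 0
  rw [add_zero] at h
  exact (mul_eq_left.1 h.symm)

theorem z2 : x2 0 = 1 := by
  have h := S.rel.add2 0 0 (map_zero σ) (map_zero σ)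
  rw [add_zero] at h
  exact (mul_eq_left.1 h.symm)

theorem z3 : x3 0 = 1 := by
  have h := S.rel.add3 0 0
  rw [add_zero] at h
  exact (mul_eq_left.1 h.symm)

theorem z4 : x4 0 = 1 := by
  have h := S.rel.add4 0 0 (map_zero σ) (map_zero σ)
  rw [add_zero] at h
  exact (mul_eq_left.1 h.symm)

theorem z5 : x5 0 = 1 := by
  have h := S.rel.add5 0 0
  rw [add_zero] at h
  exact (mul_eq_left.1 h.symm)

theorem z6 : x6 0 = 1 := by
  have h := S.rel.add6 0 0 (map_zero σ) (map_zero σ)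
  rw [add_zero] at h
  exact (mul_eq_left.1 h.symm)

theorem i2 {t : E} (ht : σ t = t) : (x2 t)⁻¹ = x2 t := by
  rw [inv_eq_iff_mul_eq_one, ← S.rel.add2 _ _ ht ht, S.aa, S.z2]

theorem i3 (t : E) : (x3 t)⁻¹ = x3 t := by
  rw [inv_eq_iff_mul_eq_one, ← S.rel.add3, S.aa, S.z3]

theorem i4 {t : E} (ht : σ t = t) : (x4 t)⁻¹ = x4 t := by
  rw [inv_eq_iff_mul_eq_one, ← S.rel.add4 _ _ ht ht, S.aa, S.z4]

theorem i5 (t : E) : (x5 t)⁻¹ = x5 t := by
  rw [inv_eq_iff_mul_eq_one, ← S.rel.add5, S.aa, S.z5]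

theorem i6 {t : E} (ht : σ t = t) : (x6 t)⁻¹ = x6 t := by
  rw [inv_eq_iff_mul_eq_one, ← S.rel.add6 _ _ ht ht, S.aa, S.z6]

theorem i1 (t : E) : (x1 t)⁻¹ = x1 t := by
  rw [inv_eq_iff_mul_eq_one, ← S.rel.add1, S.aa, S.z1]

theorem c32 {a t : E} (ht : σ t = t) : x3 a * x2 t = x2 t * x3 a := (kk_iff.1 (S.rel.c23 t a ht)).symm
theorem c42 {u t : E} (hu : σ u = u) (ht : σ t = t) : x4 u * x2 t = x2 t * x4 u :=
  (kk_iff.1 (S.rel.c24 t u ht hu)).symm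
theorem c52 {b t : E} (ht : σ t = t) : x5 b * x2 t = x2 t * x5 b := (kk_iff.1 (S.rel.c25 t b ht)).symm
theorem c43 {u a : E} (hu : σ u = u) : x4 u * x3 a = x3 a * x4 u := (kk_iff.1 (S.rel.c34 a u hu)).symm
theorem c63 {v a : E} (hv : σ v = v) : x6 v * x3 a = x3 a * x6 v := (kk_iff.1 (S.rel.c36 a v hv)).symm
theorem c45' {u b : E} (hu : σ u = u) : x4 u * x5 b = x5 b * x4 u := kk_iff.1 (S.rel.c45 u b hu)
theorem c46' {u v : E} (hu : σ u = u) (hv : σ v = v) : x4 u * x6 v = x6 v * x4 u := kk_iff.1 (S.rel.c46 u v hu hv)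
theorem c65 {v b : E} (hv : σ v = v) : x6 v * x5 b = x5 b * x6 v := (kk_iff.1 (S.rel.c56 b v hv)).symm

theorem c62 {v t : E} (hv : σ v = v) (ht : σ t = t) : x6 v * x2 t = x2 t * (x6 v * x4 (t * v)) := by
  have h := S.rel.c26 t v ht hv
  have hf := S.fm ht hv
  rw [kk] at h
  -- `x2 t x6 v = x6 v x2 t x4`
  have h1 : x2 t * x6 v = x6 v * x2 t * x4 (t * v) := by rw [← h]; group
  rw [← mul_assoc, h1, mul_assoc, mul_assoc, ← S.rel.add4 _ _ hf hf, S.aa, S.z4, mul_one]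

theorem c53 {b a : E} : x5 b * x3 a = x3 a * (x5 b * x4 (trc σ a b)) := by
  have h := S.rel.c35 a b
  have hf := S.ft a b
  rw [kk] at h
  have h1 : x3 a * x5 b = x5 b * x3 a * x4 (trc σ a b) := by rw [← h]; group
  rw [← mul_assoc, h1, mul_assoc, mul_assoc, ← S.rel.add4 _ _ hf hf, S.aa, S.z4, mul_one]

end

/-- the elements of `Q` -/
def FF (x2 x3 x4 x5 x6 : E → G) (t a b v u : E) : G := x2 t * (x3 a * (x5 b * (x6 v * x4 u)))

variable (S : Sys σ x1 x2 x3 x4 x5 x6)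

include S

theorem FF_mul {t a b v u t' a' b' v' u' : E} (ht : σ t = t) (hv : σ v = v) (hu : σ u = u) (ht' : σ t' = t')
    (hv' : σ v' = v') (hu' : σ u' = u') :
    FF x2 x3 x4 x5 x6 t a b v u * FF x2 x3 x4 x5 x6 t' a' b' v' u' =
      FF x2 x3 x4 x5 x6 (t + t') (a + a') (b + b') (v + v') (u + u' + t' * v + trc σ a' b) := by
  have h1 := S.fm ht' hv
  have h2 := S.ft a' b
  have r42 : ∀ r, x4 u * (x2 t' * r) = x2 t' * (x4 u * r) := fun r => by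
    rw [← mul_assoc, S.c42 hu ht', mul_assoc]
  have r43 : ∀ u : E, σ u = u → ∀ r, x4 u * (x3 a' * r) = x3 a' * (x4 u * r) := fun u hu r => by
    rw [← mul_assoc, S.c43 hu, mul_assoc]
  have r45 : ∀ u : E, σ u = u → ∀ r, x4 u * (x5 b' * r) = x5 b' * (x4 u * r) := fun u hu r => by
    rw [← mul_assoc, S.c45' hu, mul_assoc]
  have r46 : ∀ u : E, σ u = u → ∀ r, x4 u * (x6 v' * r) = x6 v' * (x4 u * r) := fun u hu r => by
    rw [← mul_assoc, S.c46' hu hv', mul_assoc]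
  have r46' : ∀ u : E, σ u = u → ∀ r, x4 u * (x6 v * r) = x6 v * (x4 u * r) := fun u hu r => by
    rw [← mul_assoc, S.c46' hu hv, mul_assoc]
  have r62 : ∀ r, x6 v * (x2 t' * r) = x2 t' * (x6 v * (x4 (t' * v) * r)) := fun r => by
    rw [← mul_assoc, S.c62 hv ht']; simp only [mul_assoc]
  have r63 : ∀ r, x6 v * (x3 a' * r) = x3 a' * (x6 v * r) := fun r => by
    rw [← mul_assoc, S.c63 hv, mul_assoc]
  have r65 : ∀ r, x6 v * (x5 b' * r) = x5 b' * (x6 v * r) := fun r => by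
    rw [← mul_assoc, S.c65 hv, mul_assoc]
  have r52 : ∀ r, x5 b * (x2 t' * r) = x2 t' * (x5 b * r) := fun r => by
    rw [← mul_assoc, S.c52 ht', mul_assoc]
  have r53 : ∀ r, x5 b * (x3 a' * r) = x3 a' * (x5 b * (x4 (trc σ a' b) * r)) := fun r => by
    rw [← mul_assoc, S.c53]; simp only [mul_assoc]
  have r32 : ∀ r, x3 a * (x2 t' * r) = x2 t' * (x3 a * r) := fun r => by
    rw [← mul_assoc, S.c32 ht', mul_assoc]
  simp only [FF, mul_assoc]
  rw [r42, r43 u hu, r45 u hu, r46 u hu, r62, r43 _ h1, r45 _ h1, r46 _ h1, r63, r65, r52, r53, r45 _ h2, r46' _ h2,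
    r46 _ h2, r32, S.rel.add2 _ _ ht ht', S.rel.add3, S.rel.add5, S.rel.add6 _ _ hv hv',
    S.rel.add4 _ _ (S.fa (S.fa hu hu') h1) h2, S.rel.add4 _ _ (S.fa hu hu') h1, S.rel.add4 _ _ hu hu']
  simp only [mul_assoc]
  congr 8
  have e1 : ∀ s s' : E, σ s = s → σ s' = s' → x4 s * x4 s' = x4 s' * x4 s := fun s s' h h' => by
    rw [← S.rel.add4 _ _ h h', ← S.rel.add4 _ _ h' h, add_comm]
  have k1 : ∀ s s' : E, σ s = s → σ s' = s' → Commute (x4 s) (x4 s') := e1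
  have h3 : Commute (x4 (trc σ a' b) * x4 (t' * v)) (x4 u * x4 u') :=
    ((k1 _ _ h2 hu).mul_right (k1 _ _ h2 hu')).mul_left ((k1 _ _ h1 hu).mul_right (k1 _ _ h1 hu'))
  rw [← mul_assoc, h3.eq, mul_assoc, e1 _ _ h2 h1]

theorem FF2 {t : E} : x2 t = FF x2 x3 x4 x5 x6 t 0 0 0 0 := by
  rw [FF, S.z3, S.z5, S.z6, S.z4, mul_one, mul_one, mul_one, mul_one]

theorem FF3 {a : E} : x3 a = FF x2 x3 x4 x5 x6 0 a 0 0 0 := by
  rw [FF, S.z2, S.z5, S.z6, S.z4, mul_one, mul_one, mul_one, one_mul]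

theorem FF4 {u : E} : x4 u = FF x2 x3 x4 x5 x6 0 0 0 0 u := by
  rw [FF, S.z2, S.z3, S.z5, S.z6, one_mul, one_mul, one_mul, one_mul]

theorem FF5 {b : E} : x5 b = FF x2 x3 x4 x5 x6 0 0 b 0 0 := by
  rw [FF, S.z2, S.z3, S.z6, S.z4, mul_one, mul_one, one_mul, one_mul]

theorem FF6 {v : E} : x6 v = FF x2 x3 x4 x5 x6 0 0 0 v 0 := by
  rw [FF, S.z2, S.z3, S.z5, S.z4, mul_one, one_mul, one_mul, one_mul]

theorem FF_one : (1 : G) = FF x2 x3 x4 x5 x6 0 0 0 0 0 := by rw [← S.FF4, S.z4]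

/-- `g` has the coordinates `t, a, b, v` modulo `X₄` -/
def In (_ : Sys σ x1 x2 x3 x4 x5 x6) (g : G) (t a b v : E) : Prop := ∃ s, σ s = s ∧ g = FF x2 x3 x4 x5 x6 t a b v s

theorem In.mul {g g' : G} {t a b v t' a' b' v' : E} (h : S.In g t a b v) (h' : S.In g' t' a' b' v') (ht : σ t = t)
    (hv : σ v = v) (ht' : σ t' = t') (hv' : σ v' = v') : S.In (g * g') (t + t') (a + a') (b + b') (v + v') := by
  obtain ⟨s, hs, rfl⟩ := h
  obtain ⟨s', hs', rfl⟩ := h'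
  exact ⟨_, S.fa (S.fa (S.fa hs hs') (S.fm ht' hv)) (S.ft _ _), S.FF_mul ht hv hs ht' hv' hs'⟩

theorem In.inv {g : G} {t a b v : E} (h : S.In g t a b v) (ht : σ t = t) (hv : σ v = v) : S.In g⁻¹ t a b v := by
  obtain ⟨s, hs, rfl⟩ := h
  refine ⟨s + t * v + trc σ a b, S.fa (S.fa hs (S.fm ht hv)) (S.ft _ _), ?_⟩
  rw [inv_eq_iff_mul_eq_one, S.FF_mul ht hv hs ht hv (S.fa (S.fa hs (S.fm ht hv)) (S.ft _ _)), S.aa, S.aa, S.aa, S.aa,
    S.FF_one]
  congr 1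
  linear_combination (s + t * v + trc σ a b) * S.two

theorem In.congr {g : G} {t a b v t' a' b' v' : E} (h : S.In g t a b v) (h1 : t = t') (h2 : a = a') (h3 : b = b')
    (h4 : v = v') : S.In g t' a' b' v' := by
  subst h1 h2 h3 h4
  exact h

theorem in2 {t : E} : S.In (x2 t) t 0 0 0 := ⟨0, map_zero σ, S.FF2⟩
theorem in3 {a : E} : S.In (x3 a) 0 a 0 0 := ⟨0, map_zero σ, S.FF3⟩
theorem in4 {u : E} (hu : σ u = u) : S.In (x4 u) 0 0 0 0 := ⟨u, hu, S.FF4⟩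
theorem in5 {b : E} : S.In (x5 b) 0 0 b 0 := ⟨0, map_zero σ, S.FF5⟩
theorem in6 {v : E} : S.In (x6 v) 0 0 0 v := ⟨0, map_zero σ, S.FF6⟩

/-- conjugation by `x₁ c` -/
theorem In.conj (c : E) {g : G} {t a b v : E} (h : S.In g t a b v) (ht : σ t = t) (hv : σ v = v) :
    S.In ((x1 c)⁻¹ * g * x1 c) (t + trc σ c a + trc σ (shp σ c) b + v * nrm σ c) (a + crs σ c b + v * shp σ c)
      (b + v * c) v := by
  have h0 := map_zero σ
  have hn : σ (v * nrm σ c) = v * nrm σ c := S.fm hv (S.fn c)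
  have hn' : σ (v ^ 2 * nrm σ c) = v ^ 2 * nrm σ c := by rw [map_mul, map_pow, hv, S.fn]
  have hk : ∀ y : G, (x1 c)⁻¹ * y * x1 c = y * (kk (x1 c) y)⁻¹ := fun y => by rw [kk]; group
  obtain ⟨u, hu, rfl⟩ := h
  have e2 : S.In ((x1 c)⁻¹ * x2 t * x1 c) t 0 0 0 := by
    rw [hk, S.rel.c12 c t ht, inv_one, mul_one]
    exact S.in2
  have e4 : S.In ((x1 c)⁻¹ * x4 u * x1 c) 0 0 0 0 := by
    rw [hk, S.rel.c14 c u hu, inv_one, mul_one]
    exact S.in4 hu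
  have e3 : S.In ((x1 c)⁻¹ * x3 a * x1 c) (trc σ c a) a 0 0 := by
    rw [hk, S.rel.c13, S.i2 (S.ft c a)]
    exact (In.mul S S.in3 S.in2 h0 h0 (S.ft _ _) h0).congr S (zero_add _) (add_zero _) (add_zero _) (add_zero _)
  have e5 : S.In ((x1 c)⁻¹ * x5 b * x1 c) (trc σ (shp σ c) b) (crs σ c b) b 0 := by
    rw [hk, S.rel.c15, S.neg_eq]
    have h1 : S.In (x2 (trc σ (shp σ c) b) * x3 (crs σ c b) * x4 (trc σ c (shp σ b))) (trc σ (shp σ c) b)
        (crs σ c b) 0 0 :=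
      (In.mul S (In.mul S S.in2 S.in3 (S.ft _ _) h0 h0 h0) (S.in4 (S.ft _ _)) (by rw [add_zero]; exact S.ft _ _)
        (by rw [add_zero, h0]) h0 h0).congr S (by ring) (by ring) (by ring) (by ring)
    exact (In.mul S S.in5 (h1.inv S (S.ft _ _) h0) h0 h0 (S.ft _ _) h0).congr S (by ring) (by ring) (by ring) (by ring)
  have e6 : S.In ((x1 c)⁻¹ * x6 v * x1 c) (v * nrm σ c) (v * shp σ c) (v * c) v := by
    rw [hk, S.rel.c16 c v hv, S.neg_eq, S.neg_eq]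
    have h1 : S.In (x2 (v * nrm σ c) * x3 (v * shp σ c)) (v * nrm σ c) (v * shp σ c) 0 0 :=
      (In.mul S S.in2 S.in3 hn h0 h0 h0).congr S (by ring) (by ring) (by ring) (by ring)
    have h2 : S.In (x2 (v * nrm σ c) * x3 (v * shp σ c) * x4 (v ^ 2 * nrm σ c)) (v * nrm σ c) (v * shp σ c) 0 0 :=
      (In.mul S h1 (S.in4 hn') hn h0 h0 h0).congr S (by ring) (by ring) (by ring) (by ring)
    have h3 : S.In (x2 (v * nrm σ c) * x3 (v * shp σ c) * x4 (v ^ 2 * nrm σ c) * x5 (v * c)) (v * nrm σ c)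
        (v * shp σ c) (v * c) 0 :=
      (In.mul S h2 S.in5 hn h0 h0 h0).congr S (by ring) (by ring) (by ring) (by ring)
    exact (In.mul S S.in6 (h3.inv S hn h0) h0 hv hn h0).congr S (by ring) (by ring) (by ring) (by ring)
  have h1 : (x1 c)⁻¹ * FF x2 x3 x4 x5 x6 t a b v u * x1 c =
      ((x1 c)⁻¹ * x2 t * x1 c) * (((x1 c)⁻¹ * x3 a * x1 c) * (((x1 c)⁻¹ * x5 b * x1 c) *
        (((x1 c)⁻¹ * x6 v * x1 c) * ((x1 c)⁻¹ * x4 u * x1 c)))) := by
    rw [FF]; group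
  rw [h1]
  have f1 := In.mul S e6 e4 hn hv h0 h0
  have f2 := In.mul S e5 f1 (S.ft _ _) h0 (S.fa hn h0) (S.fa hv h0)
  have f3 := In.mul S e3 f2 (S.ft _ _) h0 (S.fa (S.ft _ _) (S.fa hn h0)) (S.fa h0 (S.fa hv h0))
  have f4 := In.mul S e2 f3 ht h0 (S.fa (S.ft _ _) (S.fa (S.ft _ _) (S.fa hn h0))) (S.fa h0 (S.fa h0 (S.fa hv h0)))
  exact f4.congr S (by ring) (by ring) (by ring) (by ring)

/-! ### Uniqueness -/

theorem x4_inj {s s' : E} (hs : σ s = s) (hs' : σ s' = s') (h : x4 s = x4 s') : s = s' := by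
  rcases S.f2 s hs with rfl | rfl <;> rcases S.f2 s' hs' with rfl | rfl
  · rfl
  · exact absurd (h.symm.trans S.z4) S.ne4
  · exact absurd (h.trans S.z4) S.ne4
  · rfl

theorem FF_cancel {t a b v u u' : E} (hu : σ u = u) (hu' : σ u' = u')
    (h : FF x2 x3 x4 x5 x6 t a b v u = FF x2 x3 x4 x5 x6 t a b v u') : u = u' := by
  simp only [FF, mul_right_inj] at h
  exact S.x4_inj hu hu' h

theorem trc_inv {a : E} (ha : a ≠ 0) : trc σ a⁻¹ a = 1 := by
  simp only [trc, inv_mul_cancel₀ ha, map_one]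
  linear_combination S.two

theorem trc_inv' {a : E} (ha : a ≠ 0) : trc σ a a⁻¹ = 1 := by
  simp only [trc, mul_inv_cancel₀ ha, map_one]
  linear_combination S.two

theorem trc_zero (a : E) : trc σ a 0 = 0 := by simp [trc]

theorem zero_trc (a : E) : trc σ 0 a = 0 := by simp [trc]

theorem FF_eq_one {t a b v u : E} (ht : σ t = t) (hv : σ v = v) (hu : σ u = u)
    (h : FF x2 x3 x4 x5 x6 t a b v u = 1) : t = 0 ∧ a = 0 ∧ b = 0 ∧ v = 0 ∧ u = 0 := by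
  have h0 := map_zero σ
  have h1' := map_one σ
  have hcomm : ∀ g : G, g * FF x2 x3 x4 x5 x6 t a b v u = FF x2 x3 x4 x5 x6 t a b v u * g := fun g => by
    rw [h, mul_one, one_mul]
  have hv0 : v = 0 := by
    have h1 := hcomm (x2 1)
    rw [S.FF2, S.FF_mul h1' h0 h0 ht hv hu, S.FF_mul ht hv hu h1' h0 h0, add_comm 1 t, zero_add a, zero_add b,
      zero_add v, add_zero a, add_zero b, add_zero v] at h1
    have h2 := S.FF_cancel (S.fa (S.fa (S.fa h0 hu) (S.fm ht h0)) (S.ft _ _))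
      (S.fa (S.fa (S.fa hu h0) (S.fm h1' hv)) (S.ft _ _)) h1
    rw [S.trc_zero, S.zero_trc] at h2
    linear_combination -h2
  have hb0 : b = 0 := by
    by_contra hb
    have h1 := hcomm (x3 b⁻¹)
    rw [S.FF3, S.FF_mul h0 h0 h0 ht hv hu, S.FF_mul ht hv hu h0 h0 h0, zero_add t, add_comm b⁻¹ a, zero_add b,
      zero_add v, add_zero t, add_zero b, add_zero v] at h1
    have h2 := S.FF_cancel (S.fa (S.fa (S.fa h0 hu) (S.fm ht h0)) (S.ft _ _))
      (S.fa (S.fa (S.fa hu h0) (S.fm h0 hv)) (S.ft _ _)) h1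
    rw [S.trc_zero, S.trc_inv hb] at h2
    have h3 : (1 : E) = 0 := by linear_combination -h2
    exact one_ne_zero h3
  have ha0 : a = 0 := by
    by_contra ha
    have h1 := hcomm (x5 a⁻¹)
    rw [S.FF5, S.FF_mul h0 h0 h0 ht hv hu, S.FF_mul ht hv hu h0 h0 h0, zero_add t, zero_add a, add_comm a⁻¹ b,
      zero_add v, add_zero t, add_zero a, add_zero v] at h1
    have h2 := S.FF_cancel (S.fa (S.fa (S.fa h0 hu) (S.fm ht h0)) (S.ft _ _))
      (S.fa (S.fa (S.fa hu h0) (S.fm h0 hv)) (S.ft _ _)) h1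
    rw [S.zero_trc, S.trc_inv' ha] at h2
    have h3 : (1 : E) = 0 := by linear_combination h2
    exact one_ne_zero h3
  have ht0 : t = 0 := by
    have h1 := hcomm (x6 1)
    rw [S.FF6, S.FF_mul h0 h1' h0 ht hv hu, S.FF_mul ht hv hu h0 h1' h0, zero_add t, zero_add a, zero_add b,
      add_comm 1 v, add_zero t, add_zero a, add_zero b] at h1
    have h2 := S.FF_cancel (S.fa (S.fa (S.fa h0 hu) (S.fm ht h1')) (S.ft _ _))
      (S.fa (S.fa (S.fa hu h0) (S.fm h0 hv)) (S.ft _ _)) h1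
    rw [S.trc_zero, S.zero_trc] at h2
    linear_combination h2
  refine ⟨ht0, ha0, hb0, hv0, ?_⟩
  rw [ht0, ha0, hb0, hv0, ← S.FF4] at h
  exact S.x4_inj hu h0 (h.trans S.z4.symm)

theorem FF_inj {t a b v u t' a' b' v' u' : E} (ht : σ t = t) (hv : σ v = v) (hu : σ u = u) (ht' : σ t' = t')
    (hv' : σ v' = v') (hu' : σ u' = u')
    (h : FF x2 x3 x4 x5 x6 t a b v u = FF x2 x3 x4 x5 x6 t' a' b' v' u') :
    t = t' ∧ a = a' ∧ b = b' ∧ v = v' ∧ u = u' := by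
  obtain ⟨s, hs, h1⟩ := In.inv S (⟨u, hu, rfl⟩ : S.In _ t a b v) ht hv
  have h2 : FF x2 x3 x4 x5 x6 t a b v s * FF x2 x3 x4 x5 x6 t' a' b' v' u' = 1 := by
    rw [← h1, ← h, inv_mul_cancel]
  rw [S.FF_mul ht hv hs ht' hv' hu'] at h2
  obtain ⟨k1, k2, k3, k4, -⟩ := S.FF_eq_one (S.fa ht ht') (S.fa hv hv')
    (S.fa (S.fa (S.fa hs hu') (S.fm ht' hv)) (S.ft _ _)) h2
  have key : ∀ x y : E, x + y = 0 → x = y := fun x y hxy => by linear_combination hxy - y * S.two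
  obtain rfl := key _ _ k1
  obtain rfl := key _ _ k2
  obtain rfl := key _ _ k3
  obtain rfl := key _ _ k4
  exact ⟨rfl, rfl, rfl, rfl, S.FF_cancel hu hu' h⟩

/-! ### The group `Q` -/

/-- `Q = X₂X₃X₄X₅X₆` -/
def Q (S : Sys σ x1 x2 x3 x4 x5 x6) : Subgroup G where
  carrier := {g | ∃ t a b v, σ t = t ∧ σ v = v ∧ S.In g t a b v}
  one_mem' := ⟨0, 0, 0, 0, map_zero σ, map_zero σ, 0, map_zero σ, S.FF_one⟩
  mul_mem' := by
    rintro g g' ⟨t, a, b, v, ht, hv, h⟩ ⟨t', a', b', v', ht', hv', h'⟩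
    exact ⟨_, _, _, _, S.fa ht ht', S.fa hv hv', In.mul S h h' ht hv ht' hv'⟩
  inv_mem' := by
    rintro g ⟨t, a, b, v, ht, hv, h⟩
    exact ⟨t, a, b, v, ht, hv, h.inv S ht hv⟩

theorem mem_Q {g : G} : g ∈ S.Q ↔ ∃ t a b v, σ t = t ∧ σ v = v ∧ S.In g t a b v := Iff.rfl

theorem m2 {t : E} (ht : σ t = t) : x2 t ∈ S.Q := ⟨_, _, _, _, ht, map_zero σ, S.in2⟩
theorem m3 {a : E} : x3 a ∈ S.Q := ⟨_, _, _, _, map_zero σ, map_zero σ, S.in3⟩
theorem m4 {u : E} (hu : σ u = u) : x4 u ∈ S.Q := ⟨_, _, _, _, map_zero σ, map_zero σ, S.in4 hu⟩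
theorem m5 {b : E} : x5 b ∈ S.Q := ⟨_, _, _, _, map_zero σ, map_zero σ, S.in5⟩
theorem m6 {v : E} (hv : σ v = v) : x6 v ∈ S.Q := ⟨_, _, _, _, map_zero σ, hv, S.in6⟩

theorem Q_le {D : Subgroup G} (h2 : ∀ t, σ t = t → x2 t ∈ D) (h3 : ∀ a, x3 a ∈ D) (h4 : ∀ u, σ u = u → x4 u ∈ D)
    (h5 : ∀ b, x5 b ∈ D) (h6 : ∀ v, σ v = v → x6 v ∈ D) : S.Q ≤ D := by
  rintro g ⟨t, a, b, v, ht, hv, u, hu, rfl⟩
  exact D.mul_mem (h2 t ht) (D.mul_mem (h3 a) (D.mul_mem (h5 b) (D.mul_mem (h6 v hv) (h4 u hu))))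

theorem card_fix : Nat.card {t : E // σ t = t} = 2 := by
  have h : ({t : E | σ t = t} : Set E) = {0, 1} := by
    ext t
    constructor
    · exact fun ht => S.f2 t ht
    · rintro (rfl | rfl)
      · exact map_zero σ
      · exact map_one σ
  have h1 : Nat.card {t : E // σ t = t} = ({t : E | σ t = t} : Set E).ncard := rfl
  rw [h1, h, Set.ncard_pair zero_ne_one]

theorem card_Q [Finite E] (h8 : Nat.card E = 8) : Nat.card S.Q = 2 ^ 9 := by
  let f : {t : E // σ t = t} × E × E × {t : E // σ t = t} × {t : E // σ t = t} → S.Q := fun p =>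
    ⟨FF x2 x3 x4 x5 x6 p.1 p.2.1 p.2.2.1 p.2.2.2.1 p.2.2.2.2, _, _, _, _, p.1.2, p.2.2.2.1.2, _, p.2.2.2.2.2, rfl⟩
  have hf : Function.Bijective f := by
    constructor
    · rintro ⟨t, a, b, v, u⟩ ⟨t', a', b', v', u'⟩ h
      obtain ⟨k1, k2, k3, k4, k5⟩ := S.FF_inj t.2 v.2 u.2 t'.2 v'.2 u'.2 (congrArg Subtype.val h)
      have k2' : a = a' := k2
      have k3' : b = b' := k3
      rw [Subtype.ext k1, k2', k3', Subtype.ext k4, Subtype.ext k5]
    · rintro ⟨g, t, a, b, v, ht, hv, u, hu, rfl⟩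
      exact ⟨⟨⟨t, ht⟩, a, b, ⟨v, hv⟩, ⟨u, hu⟩⟩, rfl⟩
  rw [← Nat.card_congr (Equiv.ofBijective f hf), Nat.card_prod, Nat.card_prod, Nat.card_prod, Nat.card_prod, h8,
    S.card_fix]
  norm_num

theorem comm35 : x3 1 * x5 1 * (x3 1)⁻¹ * (x5 1)⁻¹ = x4 1 := by
  have h := S.rel.c35 1 1
  have h1 : trc σ (1 : E) 1 = 1 := by
    simp only [trc, mul_one, map_one]
    linear_combination S.two
  rw [h1, kk, S.i3, S.i5] at h
  rw [S.i3, S.i5, h]

theorem z_comm {g : G} (hg : g ∈ S.Q) : g * x4 1 = x4 1 * g := by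
  obtain ⟨t, a, b, v, ht, hv, u, hu, rfl⟩ := hg
  have h1 := map_one σ
  have h0 := map_zero σ
  rw [S.FF4, S.FF_mul ht hv hu h0 h0 h1, S.FF_mul h0 h0 h1 ht hv hu, S.trc_zero, S.zero_trc]
  congr 1 <;> ring

theorem crs_shp (c c' : E) : shp σ c + shp σ c' + shp σ (c + c') = crs σ c c' := by
  simp only [shp, crs, map_add]
  linear_combination (σ c * σ (σ c) + σ c' * σ (σ c')) * S.two

/-- every element is a cross product -/
theorem exists_crs (y : E) : ∃ c c', crs σ c c' = y := by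
  by_cases hy : y = 0
  · exact ⟨0, 0, by simp [crs, hy]⟩
  obtain ⟨d, hd⟩ := S.hne
  have hw : σ (σ d) + σ d ≠ 0 := by
    intro h0
    apply hd
    have h1 : σ (σ d) = σ d := by linear_combination h0 - σ d * S.two
    exact σ.injective h1
  have hx : y / (σ (σ d) + σ d) ≠ 0 := div_ne_zero hy hw
  refine ⟨(y / (σ (σ d) + σ d))⁻¹, σ (y / (σ (σ d) + σ d)) * σ (σ (y / (σ (σ d) + σ d))) * d, ?_⟩
  have h4 : y = y / (σ (σ d) + σ d) * (σ (σ d) + σ d) := (div_mul_cancel₀ y hw).symm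
  have hc := S.rel.cube
  generalize y / (σ (σ d) + σ d) = x at *
  have hx1 : σ x ≠ 0 := (map_ne_zero σ).2 hx
  have hx2 : σ (σ x) ≠ 0 := (map_ne_zero σ).2 hx1
  rw [h4]
  simp only [crs, map_mul, map_inv₀, hc]
  field_simp

theorem exists_crs_ne {b : E} (hb : b ≠ 0) : ∃ c, crs σ c b ≠ 0 := by
  obtain ⟨d, hd⟩ := S.hne
  refine ⟨b * d, fun h0 => ?_⟩
  have h1 : σ b * σ (σ b) * (σ (σ d) + σ d) = 0 := by
    rw [← h0]
    simp only [crs, map_mul]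
    ring
  have hx1 : σ b ≠ 0 := (map_ne_zero σ).2 hb
  have hx2 : σ (σ b) ≠ 0 := (map_ne_zero σ).2 hx1
  rcases mul_eq_zero.1 h1 with h2 | h2
  · exact (mul_ne_zero hx1 hx2) h2
  · apply hd
    have h3 : σ (σ d) = σ d := by linear_combination h2 - σ d * S.two
    exact σ.injective h3

/-- the case `x₄ 1 ∈ B` -/
theorem irr_aux {B : Subgroup G} (hB : B ≤ S.Q) (hz : x4 1 ∈ B) (h1 : ∀ c, ∀ d ∈ B, (x1 c)⁻¹ * d * x1 c ∈ B) {w : G}
    (hw : ∀ d ∈ B, w * d * w⁻¹ ∈ B) (hw2 : w * x2 1 * w⁻¹ = x6 1) {d : G} (hd : d ∈ B) (hd1 : d ≠ 1)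
    (hdz : d ≠ x4 1) : S.Q ≤ B := by
  have h0 := map_zero σ
  have h4 : ∀ u, σ u = u → x4 u ∈ B := by
    intro u hu
    rcases S.f2 u hu with rfl | rfl
    · rw [S.z4]; exact B.one_mem
    · exact hz
  -- commutators with `x₁ c`
  have hk : ∀ c : E, ∀ {g : G} {t a b v : E}, g ∈ B → S.In g t a b v → σ t = t → σ v = v →
      ∃ g' ∈ B, S.In g' (trc σ c a + trc σ (shp σ c) b + v * nrm σ c) (crs σ c b + v * shp σ c) (v * c) 0 := by
    intro c g t a b v hg h ht hv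
    refine ⟨g⁻¹ * ((x1 c)⁻¹ * g * x1 c), B.mul_mem (B.inv_mem hg) (h1 c g hg), ?_⟩
    refine (In.mul S (h.inv S ht hv) (h.conj S c ht hv) ht hv ?_ hv).congr S ?_ ?_ ?_ ?_
    · exact S.fa (S.fa (S.fa ht (S.ft _ _)) (S.ft _ _)) (S.fm hv (S.fn c))
    · linear_combination t * S.two
    · linear_combination a * S.two
    · linear_combination b * S.two
    · exact S.aa v
  have a0 : ∀ {g : G}, g ∈ B → S.In g 1 0 0 0 → x2 1 ∈ B := by
    rintro g hg ⟨s, hs, rfl⟩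
    have h2 : FF x2 x3 x4 x5 x6 1 0 0 0 s = x2 1 * x4 s := by
      rw [FF, S.z3, S.z5, S.z6, one_mul, one_mul, one_mul]
    rw [h2] at hg
    exact (Subgroup.mul_mem_cancel_right B (h4 s hs)).1 hg
  have a1 : ∀ {g : G} {t a : E}, g ∈ B → S.In g t a 0 0 → σ t = t → a ≠ 0 → x2 1 ∈ B := by
    intro g t a hg h ht ha
    obtain ⟨g', hg', h'⟩ := hk a⁻¹ hg h ht h0
    refine a0 hg' (h'.congr S ?_ ?_ ?_ rfl)
    · rw [S.trc_inv ha, S.trc_zero]; ring
    · simp [crs]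
    · ring
  have a2 : ∀ {g : G} {t a b : E}, g ∈ B → S.In g t a b 0 → σ t = t → b ≠ 0 → x2 1 ∈ B := by
    intro g t a b hg h ht hb
    obtain ⟨c, hc⟩ := S.exists_crs_ne hb
    obtain ⟨g', hg', h'⟩ := hk c hg h ht h0
    refine a1 hg' (h'.congr S rfl (b := _) (b' := 0) rfl (by ring) rfl) ?_ ?_
    · rw [zero_mul, add_zero]
      exact S.fa (S.ft _ _) (S.ft _ _)
    · rw [zero_mul, add_zero]
      exact hc
  have h21 : x2 1 ∈ B := by
    obtain ⟨t, a, b, v, ht, hv, hin⟩ := hB hd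
    by_cases hv0 : v = 0
    · subst hv0
      by_cases hb0 : b = 0
      · subst hb0
        by_cases ha0 : a = 0
        · subst ha0
          rcases S.f2 t ht with rfl | rfl
          · exfalso
            obtain ⟨s, hs, h2⟩ := hin
            rw [← S.FF4] at h2
            rcases S.f2 s hs with rfl | rfl
            · exact hd1 (h2.trans S.z4)
            · exact hdz h2
          · exact a0 hd hin
        · exact a1 hd hin ht ha0
      · exact a2 hd hin ht hb0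
    · obtain ⟨g', hg', h'⟩ := hk 1 hd hin ht hv
      refine a2 hg' h' ?_ (by rw [mul_one]; exact hv0)
      exact S.fa (S.fa (S.ft _ _) (S.ft _ _)) (S.fm hv (S.fn _))
  have h2 : ∀ t, σ t = t → x2 t ∈ B := by
    intro t ht
    rcases S.f2 t ht with rfl | rfl
    · rw [S.z2]; exact B.one_mem
    · exact h21
  have h61 : x6 1 ∈ B := hw2 ▸ hw _ h21
  have h6 : ∀ t, σ t = t → x6 t ∈ B := by
    intro t ht
    rcases S.f2 t ht with rfl | rfl
    · rw [S.z6]; exact B.one_mem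
    · exact h61
  have hm : ∀ c : E, ∃ g ∈ B, S.In g 0 (shp σ c) c 0 := by
    intro c
    obtain ⟨g, hg, h⟩ := hk c h61 S.in6 h0 (map_one σ)
    refine ⟨x2 (nrm σ c) * g, B.mul_mem (h2 _ (S.fn c)) hg, (In.mul S S.in2 h (S.fn c) h0 ?_ h0).congr S ?_ ?_ ?_ ?_⟩
    · exact S.fa (S.fa (S.ft _ _) (S.ft _ _)) (S.fm (map_one σ) (S.fn c))
    · rw [S.trc_zero, S.trc_zero]
      linear_combination nrm σ c * S.two
    · simp [crs]
    · ring
    · ring
  have h3 : ∀ y, x3 y ∈ B := by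
    intro y
    obtain ⟨c, c', rfl⟩ := S.exists_crs y
    obtain ⟨g, hg, k⟩ := hm c
    obtain ⟨g', hg', k'⟩ := hm c'
    obtain ⟨g'', hg'', k''⟩ := hm (c + c')
    have k1 := In.mul S (In.mul S k k' h0 h0 h0 h0) k'' (by rw [add_zero, h0]) (by rw [add_zero, h0]) h0 h0
    obtain ⟨s, hs, k2⟩ := k1.congr S (t' := 0) (a' := crs σ c c') (b' := 0) (v' := 0) (by ring) (S.crs_shp c c')
      (by linear_combination (c + c') * S.two) (by ring)
    have k3 : FF x2 x3 x4 x5 x6 0 (crs σ c c') 0 0 s = x3 (crs σ c c') * x4 s := by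
      rw [FF, S.z2, S.z5, S.z6, one_mul, one_mul, one_mul]
    have k4 := B.mul_mem (B.mul_mem hg hg') hg''
    rw [k2, k3] at k4
    exact (Subgroup.mul_mem_cancel_right B (h4 s hs)).1 k4
  have h5 : ∀ c, x5 c ∈ B := by
    intro c
    obtain ⟨g, hg, k⟩ := hm c
    obtain ⟨s, hs, k2⟩ := (In.mul S S.in3 k h0 h0 h0 h0).congr S (a := shp σ c + shp σ c) (t' := 0) (a' := 0)
      (b' := c) (v' := 0) (by ring) (S.aa _) (by ring) (by ring)
    have k3 : FF x2 x3 x4 x5 x6 0 0 c 0 s = x5 c * x4 s := by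
      rw [FF, S.z2, S.z3, S.z6, one_mul, one_mul, one_mul]
    have k4 := B.mul_mem (h3 (shp σ c)) hg
    rw [k2, k3] at k4
    exact (Subgroup.mul_mem_cancel_right B (h4 s hs)).1 k4
  exact S.Q_le h2 h3 h4 h5 h6

/-- **`Q / ⟨z⟩` is irreducible.** -/
theorem irr {D : Subgroup G} (hD : D ≤ S.Q) (h1 : ∀ c, ∀ d ∈ D, (x1 c)⁻¹ * d * x1 c ∈ D) {w : G}
    (hw : ∀ d ∈ D, w * d * w⁻¹ ∈ D) (hw2 : w * x2 1 * w⁻¹ = x6 1) (hw4 : w * x4 1 * w⁻¹ = x4 1) :
    (∀ d ∈ D, d = 1 ∨ d = x4 1) ∨ D = S.Q := by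
  by_cases hcon : ∀ d ∈ D, d = 1 ∨ d = x4 1
  · exact Or.inl hcon
  right
  push Not at hcon
  obtain ⟨d, hd, hd1, hdz⟩ := hcon
  have hs1 := map_one σ
  have hzz : x4 1 * x4 1 = (1 : G) := by rw [← S.rel.add4 1 1 hs1 hs1, S.aa, S.z4]
  have hzi : (x4 1)⁻¹ = x4 (1 : E) := S.i4 hs1
  have hcD : ∀ g ∈ D, g * x4 1 = x4 1 * g := fun g hg => S.z_comm (hD hg)
  have hc' : ∀ g : G, g * x4 1 ∈ D → g * x4 1 = x4 1 * g := by
    intro g hg
    have h2 := hcD _ hg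
    rw [mul_assoc, hzz, mul_one, ← mul_assoc] at h2
    calc g * x4 1 = x4 1 * g * x4 1 * x4 1 := by rw [← h2]
      _ = x4 1 * g * (x4 1 * x4 1) := by rw [mul_assoc]
      _ = x4 1 * g := by rw [hzz, mul_one]
  let B : Subgroup G :=
    { carrier := {g | g ∈ D ∨ g * x4 1 ∈ D}
      one_mem' := Or.inl D.one_mem
      mul_mem' := by
        rintro g g' (hg | hg) (hg' | hg')
        · exact Or.inl (D.mul_mem hg hg')
        · exact Or.inr (by rw [mul_assoc]; exact D.mul_mem hg hg')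
        · refine Or.inr ?_
          rw [mul_assoc, hcD g' hg', ← mul_assoc]
          exact D.mul_mem hg hg'
        · refine Or.inl ?_
          have h2 : g * g' = (g * x4 1) * (g' * x4 1) := by
            rw [hc' g' hg', mul_assoc g, ← mul_assoc (x4 1) (x4 1), hzz, one_mul]
          rw [h2]
          exact D.mul_mem hg hg'
      inv_mem' := by
        rintro g (hg | hg)
        · exact Or.inl (D.inv_mem hg)
        · refine Or.inr ?_
          have h2 : g⁻¹ * x4 1 = (g * x4 1)⁻¹ := by rw [hc' g hg, mul_inv_rev, hzi]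
          rw [h2]
          exact D.inv_mem hg }
  have hBm : ∀ g, g ∈ B ↔ g ∈ D ∨ g * x4 1 ∈ D := fun g => Iff.rfl
  have hDB : D ≤ B := fun g hg => Or.inl hg
  have hzB : x4 1 ∈ B := Or.inr (by rw [hzz]; exact D.one_mem)
  have hBQ : B ≤ S.Q := by
    rintro g (hg | hg)
    · exact hD hg
    · exact (Subgroup.mul_mem_cancel_right _ (S.m4 hs1)).1 (hD hg)
  have hx1z : ∀ c, (x1 c)⁻¹ * x4 1 * x1 c = x4 1 := by
    intro c
    have h2 := kk_iff.1 (S.rel.c14 c 1 hs1)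
    rw [mul_assoc, ← h2, ← mul_assoc, inv_mul_cancel, one_mul]
  have hQB : S.Q ≤ B := by
    refine S.irr_aux hBQ hzB ?_ ?_ hw2 (hDB hd) hd1 hdz
    · rintro c g (hg | hg)
      · exact Or.inl (h1 c g hg)
      · refine Or.inr ?_
        have h2 : (x1 c)⁻¹ * g * x1 c * x4 1 = (x1 c)⁻¹ * (g * x4 1) * x1 c := by
          conv_lhs => rw [← hx1z c]
          group
        rw [h2]
        exact h1 c _ hg
    · rintro g (hg | hg)
      · exact Or.inl (hw g hg)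
      · refine Or.inr ?_
        have h2 : w * g * w⁻¹ * x4 1 = w * (g * x4 1) * w⁻¹ := by
          conv_lhs => rw [← hw4]
          group
        rw [h2]
        exact hw _ hg
  -- `z ∈ D`
  have hzD : x4 1 ∈ D := by
    obtain ⟨y3, hy3, e3⟩ : ∃ y ∈ D, ∃ e : G, (e = 1 ∨ e = x4 1) ∧ y = x3 1 * e := by
      rcases (hBm _).1 (hQB (S.m3 (a := 1))) with h2 | h2
      · exact ⟨_, h2, 1, Or.inl rfl, (mul_one _).symm⟩
      · exact ⟨_, h2, x4 1, Or.inr rfl, rfl⟩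
    obtain ⟨y5, hy5, e5⟩ : ∃ y ∈ D, ∃ e : G, (e = 1 ∨ e = x4 1) ∧ y = x5 1 * e := by
      rcases (hBm _).1 (hQB (S.m5 (b := 1))) with h2 | h2
      · exact ⟨_, h2, 1, Or.inl rfl, (mul_one _).symm⟩
      · exact ⟨_, h2, x4 1, Or.inr rfl, rfl⟩
    obtain ⟨e, he, rfl⟩ := e3
    obtain ⟨e', he', rfl⟩ := e5
    have hc : ∀ e : G, (e = 1 ∨ e = x4 1) → ∀ g ∈ S.Q, g * e = e * g := by
      rintro e (rfl | rfl) g hg
      · rw [mul_one, one_mul]
      · exact S.z_comm hg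
    have k1 := hc e he _ (S.m3 (a := 1))
    have k2 := hc e he _ (S.m5 (b := 1))
    have k3 := hc e' he' _ (S.m3 (a := 1))
    have k5 : e * e' = e' * e := by
      rcases he with rfl | rfl
      · rw [mul_one, one_mul]
      · exact hc e' he' _ (S.m4 hs1)
    have k4 : (x3 1 * e) * (x5 1 * e') * (x3 1 * e)⁻¹ * (x5 1 * e')⁻¹ = x4 1 := by
      rw [← S.comm35]
      calc (x3 1 * e) * (x5 1 * e') * (x3 1 * e)⁻¹ * (x5 1 * e')⁻¹
          = x3 1 * (e * x5 1) * e' * e⁻¹ * (x3 1)⁻¹ * e'⁻¹ * (x5 1)⁻¹ := by group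
        _ = x3 1 * x5 1 * (e * e') * e⁻¹ * (x3 1)⁻¹ * e'⁻¹ * (x5 1)⁻¹ := by rw [← k2]; group
        _ = x3 1 * x5 1 * (e' * (x3 1)⁻¹ * e'⁻¹) * (x5 1)⁻¹ := by rw [k5]; group
        _ = x3 1 * x5 1 * (x3 1)⁻¹ * (x5 1)⁻¹ := by
          have k6 : e' * (x3 1)⁻¹ * e'⁻¹ = (x3 1)⁻¹ := by
            rw [mul_inv_eq_iff_eq_mul, eq_inv_mul_iff_mul_eq, ← mul_assoc, k3, mul_inv_cancel_right]
          rw [k6]
    rw [← k4]
    exact D.mul_mem (D.mul_mem (D.mul_mem hy3 hy5) (D.inv_mem hy3)) (D.inv_mem hy5)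
  refine le_antisymm hD (hQB.trans ?_)
  rintro g (hg | hg)
  · exact hg
  · exact (Subgroup.mul_mem_cancel_right _ hzD).1 hg

end Sys

end Cfsg.Agent.Omega.ML.Ex.DFour
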