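import Cfsg.Agent.Omega.ML.Ex.DFour.Core
import Cfsg.Agent.Omega.ML.Ex.TrivNine
import Cfsg.Agent.Omega.ML.Ex.ExEq
import Cfsg.Agent.Omega.ML.Ex.NoTv
import Cfsg.Agent.Omega.NO3S.SLTwo.Aut

/-!
# `³D₄(2)`: the local situation (helper809)

* `exists_nine` : an element of order nine of `SL₂(8)`;
* `Nd S P Φ w` : `P` normalises `Q` and contains the image of `SL₂(8)`;
* **`Nd.dat`**, **`Nd.loc`**, **`Nd.false`**.
-/

set_option autoImplicit false
set_option linter.unusedSectionVars false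

namespace Cfsg.Agent.Omega.ML.Ex.DFour

open Subgroup Cfsg.Agent.SplitTwo Cfsg.Agent.Omega.ML.CD
open Cfsg.Agent.Omega.ML.ExRow Cfsg.Agent.Omega.ML.Ex.NoTv Cfsg.Agent.ClassTwoFusion.Quad

universe u v w

local notation "SL2" => Matrix.SpecialLinearGroup (Fin 2)

section nine

variable {F : Type*} [Field F]

/-- an element of `F₈` with `t³ = t + 1` -/
theorem exists_tau [Finite F] (h8 : Nat.card F = 8) (h2 : (2 : F) = 0) : ∃ t : F, t ^ 3 = t + 1 := by
  classical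
  have : Fintype F := Fintype.ofFinite F
  rw [Nat.card_eq_fintype_card] at h8
  obtain ⟨a, ha⟩ : ∃ a : F, a ∉ ({0, 1} : Finset F) := by
    by_contra hcon
    push Not at hcon
    have h1 : (Finset.univ : Finset F) ⊆ {0, 1} := fun x _ => hcon x
    have h3 := Finset.card_le_card h1
    rw [Finset.card_univ, h8] at h3
    have h4 := Finset.card_le_two (a := (0 : F)) (b := 1)
    omega
  rw [Finset.mem_insert, Finset.mem_singleton, not_or] at ha
  have h7 : a ^ 7 = 1 := by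
    have h3 := FiniteField.pow_card_sub_one_eq_one a ha.1
    rwa [h8] at h3
  have h3 : (a - 1) * ((a ^ 3 + a + 1) * (a ^ 3 + a ^ 2 + 1)) = 0 := by
    linear_combination h7 + (a ^ 4 - a ^ 3) * h2
  rcases mul_eq_zero.1 h3 with h4 | h4
  · exact absurd (sub_eq_zero.1 h4) ha.2
  rcases mul_eq_zero.1 h4 with h5 | h5
  · exact ⟨a, by linear_combination h5 - (a + 1) * h2⟩
  · refine ⟨a⁻¹, ?_⟩
    have h6 := ha.1
    field_simp
    linear_combination (-1) * h5 + h2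

/-- an element of order nine of `SL₂(8)` -/
theorem exists_nine [Finite F] (h8 : Nat.card F = 8) (h2 : (2 : F) = 0) : ∃ y : SL2 F, y ^ 9 = 1 ∧ y ^ 3 ≠ 1 := by
  obtain ⟨t, ht⟩ := exists_tau h8 h2
  let y : SL2 F := ⟨!![0, -1; 1, t], by rw [Matrix.det_fin_two_of]; ring⟩
  have hy : (y : Matrix (Fin 2) (Fin 2) F) = !![0, -1; 1, t] := rfl
  have h3 : ((y ^ 3 : SL2 F) : Matrix (Fin 2) (Fin 2) F) = !![t, 1 + t ^ 2; 1 + t ^ 2, 1 + t] := by
    rw [pow_succ, pow_succ, pow_one, Matrix.SpecialLinearGroup.coe_mul, Matrix.SpecialLinearGroup.coe_mul, hy]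
    ext i j
    fin_cases i <;> fin_cases j <;> simp [Matrix.mul_apply, Fin.sum_univ_two]
    · linear_combination (-t) * h2
    · linear_combination (-t ^ 2) * h2
    · linear_combination (-1) * h2
    · linear_combination ht - t * h2
  refine ⟨y, ?_, ?_⟩
  · have e : y ^ 9 = y ^ 3 * y ^ 3 * y ^ 3 := by rw [← pow_add, ← pow_add]
    apply Subtype.ext
    rw [e]
    have h4 : ((y ^ 3 * y ^ 3 : SL2 F) : Matrix (Fin 2) (Fin 2) F) = !![1 + t, 1 + t ^ 2; 1 + t ^ 2, t] := by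
      rw [Matrix.SpecialLinearGroup.coe_mul, h3]
      ext i j
      fin_cases i <;> fin_cases j <;> simp [Matrix.mul_apply, Fin.sum_univ_two]
      · linear_combination t * ht + (t ^ 2 + t ^ 2) * h2
      · linear_combination (t + t ^ 3) * h2
      · linear_combination (t + t ^ 3) * h2
      · linear_combination t * ht + (t ^ 2 + t ^ 2 + 1 + t) * h2
    rw [Matrix.SpecialLinearGroup.coe_mul, h4, h3, Matrix.SpecialLinearGroup.coe_one]
    ext i j
    fin_cases i <;> fin_cases j <;> simp [Matrix.mul_apply, Fin.sum_univ_two]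
    · linear_combination t * ht + (t ^ 2 + t ^ 2 + t) * h2
    · linear_combination (t + t ^ 3 + 1 + t ^ 2) * h2
    · linear_combination (t + t ^ 3) * h2
    · linear_combination t * ht + (t ^ 2 + t ^ 2 + t) * h2
  · intro h
    rw [h, Matrix.SpecialLinearGroup.coe_one] at h3
    have h4 := congrFun (congrFun h3 0) 0
    have h5 := congrFun (congrFun h3 1) 1
    simp only [Matrix.one_apply_eq, Matrix.of_apply, Matrix.cons_val', Matrix.cons_val_zero, Matrix.cons_val_one,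
      Matrix.cons_val_fin_one] at h4 h5
    have h6 : (1 : F) = 0 := by linear_combination h5 - h4 + h2
    exact one_ne_zero h6

end nine

section nd

variable {E : Type w} [Field E] {σ : E ≃+* E} {Y : Type u} [Group Y] {x1 x2 x3 x4 x5 x6 : E → Y}

/-- the situation -/
structure Nd (S : Sys σ x1 x2 x3 x4 x5 x6) (P : Subgroup Y) {F : Type*} [Field F] (Φ : SL2 F →* Y) (w : Y) :
    Prop where
  c8 : Nat.card E = 8
  f8 : Nat.card F = 8
  f2 : (2 : F) = 0
  QP : S.Q ≤ P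
  nQ : ∀ g ∈ P, ∀ q ∈ S.Q, g * q * g⁻¹ ∈ S.Q
  rP : Φ.range ≤ P
  m1 : ∀ c, x1 c ∈ Φ.range
  mw : w ∈ Φ.range
  w2 : w * x2 1 * w⁻¹ = x6 1
  w4 : w * x4 1 * w⁻¹ = x4 1

variable {S : Sys σ x1 x2 x3 x4 x5 x6} {P : Subgroup Y} {F : Type*} [Field F] {Φ : SL2 F →* Y} {w : Y}

namespace Nd

theorem irr (N : Nd S P Φ w) {E' : Subgroup Y} (hE : Φ.range ≤ E') {D : Subgroup Y} (hD : D ≤ S.Q)
    (h : ∀ g ∈ E', ∀ d ∈ D, g * d * g⁻¹ ∈ D) : (∀ d ∈ D, d = 1 ∨ d = x4 1) ∨ D = S.Q := by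
  refine S.irr hD (fun c d hd => ?_) (fun d hd => h w (hE N.mw) d hd) N.w2 N.w4
  have h1 := h (x1 c)⁻¹ (inv_mem (hE (N.m1 c))) d hd
  rwa [inv_inv] at h1

theorem nab (_ : Nd S P Φ w) : x3 1 * x5 1 ≠ x5 1 * x3 1 := by
  intro h
  apply S.ne4
  rw [← S.comm35, h]
  group

theorem zz (_ : Nd S P Φ w) : x4 1 * x4 1 = (1 : Y) := by
  rw [← S.rel.add4 1 1 (map_one σ) (map_one σ), S.aa, S.z4]

/-- `P` centralises `x₄ 1` -/
theorem cen (N : Nd S P Φ w) : ∀ p ∈ P, p * x4 1 = x4 1 * p := by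
  have hs1 := map_one σ
  let Z : Subgroup Y := S.Q ⊓ centralizer (S.Q : Set Y)
  have hZ : ∀ g ∈ P, ∀ d ∈ Z, g * d * g⁻¹ ∈ Z := by
    intro g hg d hd
    refine mem_inf.2 ⟨N.nQ g hg d (mem_inf.1 hd).1, mem_centralizer_iff.2 fun c hc => ?_⟩
    have h1 := N.nQ g⁻¹ (P.inv_mem hg) c hc
    rw [inv_inv] at h1
    have h2 := mem_centralizer_iff.1 (mem_inf.1 hd).2 _ h1
    calc c * (g * d * g⁻¹) = g * (g⁻¹ * c * g * d) * g⁻¹ := by group
      _ = g * (d * (g⁻¹ * c * g)) * g⁻¹ := by rw [h2]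
      _ = g * d * g⁻¹ * c := by group
  have hzZ : x4 1 ∈ Z := mem_inf.2 ⟨S.m4 hs1, mem_centralizer_iff.2 fun g hg => S.z_comm hg⟩
  rcases N.irr N.rP (inf_le_left : Z ≤ S.Q) hZ with h | h
  · intro p hp
    rcases h _ (hZ p hp _ hzZ) with h1 | h1
    · exfalso
      apply S.ne4
      rw [mul_inv_eq_one] at h1
      calc x4 1 = p⁻¹ * (p * x4 1) := by group
        _ = 1 := by rw [h1, inv_mul_cancel]
    · rw [mul_inv_eq_iff_eq_mul] at h1
      exact h1
  · exfalso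
    apply N.nab
    have h3 : x3 1 ∈ Z := h.ge S.m3
    exact (mem_centralizer_iff.1 (mem_inf.1 h3).2 _ S.m5).symm

theorem loc (N : Nd S P Φ w) : Loc (x4 1) P S.Q where
  zz := N.zz
  z1 := S.ne4
  zR := S.m4 (map_one σ)
  cR := fun _ hr => S.z_comm hr
  cP := N.cen
  nR := N.nQ
  irr := fun _ hB h => N.irr N.rP hB h
  nab := ⟨_, S.m3, _, S.m5, N.nab⟩

theorem card (N : Nd S P Φ w) : Nat.card S.Q = 2 ^ 9 := by
  have : Finite E := Nat.finite_of_card_ne_zero (by rw [N.c8]; norm_num)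
  exact S.card_Q N.c8

theorem dat (N : Nd S P Φ w) : ∃ E' : Subgroup Y, Φ.range ≤ E' ∧ Dat.{u, v} Y P E' S.Q 4 := by
  have : Finite F := Nat.finite_of_card_ne_zero (by rw [N.f8]; norm_num)
  have : CharP F 2 := CharTwo.of_one_ne_zero_of_two_eq_zero one_ne_zero N.f2
  obtain ⟨y, hy9, hy3⟩ := exists_nine N.f8 N.f2
  let Φ' : SL2 F →* P := Φ.codRestrict P fun x => N.rP ⟨x, rfl⟩
  have hΦ' : ∀ x, (Φ' x : Y) = Φ x := fun x => rfl
  let L : Subgroup P := normalClosure {Φ' y ^ 3}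
  have hL : L.Normal := normalClosure_normal
  have hc : L.comap Φ' = ⊤ := by
    refine NO3S.SLTwo.eq_top_of_normal (by rw [N.f8]; norm_num) (hL.comap Φ') ?_
    intro h
    have h1 : y ^ 3 ∈ L.comap Φ' := by
      rw [mem_comap, map_pow]
      exact subset_normalClosure rfl
    rw [h, mem_bot] at h1
    exact hy3 h1
  have hr : Φ.range ≤ L.map P.subtype := by
    rintro _ ⟨x, rfl⟩
    have h1 : x ∈ L.comap Φ' := hc ▸ mem_top x
    exact ⟨Φ' x, h1, rfl⟩
  refine ⟨L.map P.subtype, hr, ⟨N.QP, map_subtype_le _, N.nQ, N.card, ⟨_, S.m3, _, S.m5, N.nab⟩, ?_, ?_⟩⟩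
  · intro D hD h
    refine (N.irr hr hD h).imp_left fun h1 => ?_
    have h2 : (D : Set Y) ⊆ {1, x4 1} := fun d hd => h1 d hd
    have h3 : Nat.card D = (D : Set Y).ncard := rfl
    rw [h3]
    refine (Set.ncard_le_ncard h2).trans ?_
    have h4 := Set.ncard_insert_le (1 : Y) {x4 1}
    rwa [Set.ncard_singleton] at h4
  · have h1 : (L.map P.subtype).subgroupOf P = L := comap_map_eq_self_of_injective P.subtype_injective _
    rw [h1]
    exact TrivNine.trivOn_nine (y := Φ' y) (by rw [← map_pow, hy9, map_one])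

/-- **The contradiction.** -/
theorem false [Finite Y] {M : Type v} [Group M] [Finite M] [MulDistribMulAction Y M] (N : Nd S P Φ w)
    (sq : ∀ m : M, m * m = 1) (faith : ∀ h : Y, (∀ m : M, h • m = m) → h = 1) {k : Y} (hk : k * x4 1 * k⁻¹ ∈ S.Q)
    (hkz : k * x4 1 * k⁻¹ ≠ x4 1) {A : Subgroup Y} (hAQ : A ≤ S.Q)
    (hge : fab M 1 1 (⊥ : Subgroup Y) ≤ fab M 1 1 A) (el : ∀ a ∈ A, a * a = 1) (h2 : 2 < Nat.card A) : False := by
  obtain ⟨E', hE, D⟩ := N.dat
  obtain ⟨z, hz, hz1, hzc, hi, -⟩ := D.exists_tr sq faith hAQ hge el h2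
  have hR : IsPGroup 2 S.Q := IsPGroup.of_card N.card
  -- `z = x₄ 1`
  have h3 : z = x4 1 := by
    have h4 : zpowers z ≤ S.Q := by
      rw [zpowers_le]
      exact hAQ hz
    have h5 : ∀ g ∈ P, ∀ d ∈ zpowers z, g * d * g⁻¹ ∈ zpowers z := by
      rintro g hg _ ⟨j, rfl⟩
      refine ⟨j, ?_⟩
      have h6 : g * z * g⁻¹ = z := by rw [hzc g hg, mul_inv_cancel_right]
      have h7 : g * z ^ j * g⁻¹ = (g * z * g⁻¹) ^ j := (conj_zpow).symm
      change z ^ j = g * z ^ j * g⁻¹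
      rw [h7, h6]
    rcases N.irr N.rP h4 h5 with h6 | h6
    · exact (h6 z (mem_zpowers z)).resolve_left hz1
    · exfalso
      apply N.nab
      have h7 : x3 1 ∈ zpowers z := h6 ▸ S.m3
      have h8 : x5 1 ∈ zpowers z := h6 ▸ S.m5
      obtain ⟨i, hi⟩ := mem_zpowers_iff.1 h7
      obtain ⟨j, hj⟩ := mem_zpowers_iff.1 h8
      rw [← hi, ← hj]
      exact (Commute.refl z).zpow_zpow i j
  rw [h3] at hi
  exact N.loc.index_ne_two hR sq faith hk hkz hi

end Nd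

end nd

end Cfsg.Agent.Omega.ML.Ex.DFour
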