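import Cfsg.Agent.Omega.ML.Ex.DFour.Loc
import Cfsg.Agent.Omega.ML.LieRgd
import Cfsg.Agent.ParSys.Fam.D4

/-!
# `³D₄(2)`: the model (helper809)

`P` = the parabolic subgroup of the node `1` of `twistedD4 K 2`, `|K| = 8`; `O₂(P) = Q` of order `2 ^ 9`.
-/

set_option autoImplicit false
set_option linter.unusedSectionVars false

namespace Cfsg.Agent.Omega.ML.Ex.DFour

open Subgroup Cfsg.Agent.SplitTwo Cfsg.Agent.Omega.ML.CD
open CoxeterSystem Cfsg.Agent.ChevalleyStructure.CoxeterGeom Cfsg.Agent.Tits.Roots Cfsg.Agent.Tits.Core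
  Cfsg.Agent.Tits.RootComb Cfsg.Agent.Nodes.Comb Cfsg.Agent.Nodes.Reps Cfsg.Agent.Nodes.BNOf
  Cfsg.Agent.Nodes.BNOf.RGD Cfsg.Agent.Nodes.RGDChev Cfsg.Agent.Nodes.RGDFold Cfsg.Agent.Nodes.StabComb
  Cfsg.Agent.Nodes.LeviDec Cfsg.Agent.Nodes.Bruhat
open Cfsg.Lie Cfsg.Agent.ChevalleyStructure
open Cfsg.Agent.Hexagon Cfsg.Agent.ParSys.Fam
open Cfsg.Agent.Nodes.RGDFoldSL (Fx mem_Fx wS)
open Cfsg.Agent.ChevalleyStructure.SL2Hom (up lo mem_closure_SL2)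
open Cfsg.Agent.Omega.ML.LieRgd (le_VJ PJ_ne_top)

universe u v

theorem rep22 : rep D4.cs Nodes.RGDTwD4.isCartan (D4.cs.simple 1) (V chevD4 Nodes.RGDTwD4.J 22) = sr 0 := by
  rw [rep_simple_eq]
  decide +kernel

theorem rep23 : rep D4.cs Nodes.RGDTwD4.isCartan (D4.cs.simple 1) (V chevD4 Nodes.RGDTwD4.J 23) =
    V chevD4 Nodes.RGDTwD4.J 23 := by
  rw [rep_simple_eq]
  decide +kernel

theorem rep23' : rep D4.cs Nodes.RGDTwD4.isCartan (D4.cs.simple 0) (V chevD4 Nodes.RGDTwD4.J 23) =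
    V chevD4 Nodes.RGDTwD4.J 22 := by
  rw [rep_simple_eq]
  decide +kernel

theorem pos0 (k : ℕ) (hk : k = 22 ∨ k = 17 ∨ k = 23 ∨ k = 19) :
    k < chevD4.nroots ∧ (∀ i : Fin 2, 0 ≤ V chevD4 Nodes.RGDTwD4.J k i) ∧ 0 < V chevD4 Nodes.RGDTwD4.J k 0 := by
  rcases hk with rfl | rfl | rfl | rfl <;> decide +kernel

/-- the exported statement -/
structure Pk (Y : Type u) [Group Y] (P Q U : Subgroup Y) : Prop where
  ne : P ≠ ⊤
  UP : U ≤ P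
  U2 : IsPGroup 2 U
  Ui : ¬ 2 ∣ U.index
  le : ∀ N : Subgroup Y, IsPGroup 2 N → (∀ g ∈ P, ∀ x ∈ N, g * x * g⁻¹ ∈ N) → N ≤ Q
  fls : ∀ (M : Type v) [Group M] [Finite M] [MulDistribMulAction Y M], (∀ m : M, m * m = 1) →
    (∀ y : Y, (∀ m : M, y • m = m) → y = 1) → ∀ A : Subgroup Y, A ≤ Q →
    fab M 1 1 (⊥ : Subgroup Y) ≤ fab M 1 1 A → (∀ a ∈ A, a * a = 1) → 2 < Nat.card A → False

/-- **`³D₄(2)`** -/
theorem exists_pk {K : Type u} [Field K] [Fintype K] [CharP K 2] (hK : Fintype.card K = 2 ^ 3) :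
    ∃ P Q U : Subgroup ↥(twistedD4 K 2), Pk.{u, v} ↥(twistedD4 K 2) P Q U := by
  have : Fact (Nat.Prime 2) := ⟨Nat.prime_two⟩
  obtain ⟨φ, hφ⟩ := D4Fixed.exists_frob Nat.prime_two.isPrimePow hK
  have hle := D4Fixed.twisted_le_fix hK hφ
  have hbij : Function.Bijective φ := Finite.injective_iff_bijective.1 φ.injective
  have h3 : ∀ a, φ (φ (φ a)) = a := by
    intro t
    rw [hφ, hφ, hφ, ← pow_mul, ← pow_mul]
    have : 2 * (2 * 2) = 2 ^ 3 := by ring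
    rw [this, ← hK]
    exact FiniteField.pow_card t
  have hfin := Nodes.RGDChev.finite_W (M := CoxeterMatrix.G₂) ParSys.Fam.G2.hp D4.cs
  have R := Nodes.RGDTwD4.rgd (K := K) D4.cs hK hφ 2
  have hG := KFacts.RgdRigid.GG_eq_top (T := Nodes.RGDTwD4.T K 2) (Nodes.RGDTwD4.G1_eq_top D4.cs hK hφ)
  let σ : K ≃+* K := RingEquiv.ofBijective φ hbij
  have hσ : ∀ x, σ x = x ^ 2 := hφ
  have H := TwD4Par.hexPar hφ hle (σ := σ) (fun _ => rfl) h3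
  have h20 : (2 : K) = 0 := by exact_mod_cast CharP.cast_eq_zero K 2
  have hs1 := map_one σ
  have hs0 := map_zero σ
  have hf2 : ∀ t : K, σ t = t → t = 0 ∨ t = 1 := by
    intro t ht
    rw [hσ] at ht
    have h5 : t * (t - 1) = 0 := by linear_combination ht
    rcases mul_eq_zero.1 h5 with h6 | h6
    · exact Or.inl h6
    · exact Or.inr (sub_eq_zero.1 h6)
  have hz4 : TwD4Par.ev (K := K) (q := 2) TwD4Rel.X4 0 = 1 := by
    have h := H.rel.add4 0 0 hs0 hs0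
    rw [add_zero] at h
    exact (mul_eq_left.1 h.symm)
  have hne : ∃ d, σ d ≠ d := by
    classical
    by_contra hcon
    push Not at hcon
    have h5 : (Finset.univ : Finset K) ⊆ {0, 1} := by
      intro x _
      rcases hf2 x (hcon x) with h | h
      · simp [h]
      · simp [h]
    have h6 := Finset.card_le_card h5
    rw [Finset.card_univ, hK] at h6
    have h7 := Finset.card_le_two (a := (0 : K)) (b := 1)
    omega
  have S : Sys σ (TwD4Par.ev (K := K) (q := 2) (TwD4Rel.X1 σ)) (TwD4Par.ev TwD4Rel.X2) (TwD4Par.ev (TwD4Rel.X3 σ))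
      (TwD4Par.ev TwD4Rel.X4) (TwD4Par.ev (TwD4Rel.X5 σ)) (TwD4Par.ev TwD4Rel.X6) :=
    ⟨H.rel, h20, hf2, fun h => one_ne_zero (H.inj4 _ _ hs1 hs0 (h.trans hz4.symm)), hne⟩
  have c1 := D4.mem_iff (q := 2) hle (k := 1) Nodes.RGDTwD4.cls1 (by decide +kernel) D4.L_eqs.1
  have c2 := D4.mem_iff (q := 2) hle (k := 2) D4.cls2 (by decide +kernel) D4.L_eqs.2.1
  have c3 := D4.mem_iff (q := 2) hle (k := 3) D4.cls3 (by decide +kernel) D4.L_eqs.2.2.1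
  have c4 := D4.mem_iff (q := 2) hle (k := 4) D4.cls4 (by decide +kernel) D4.L_eqs.2.2.2.1
  have c5 := D4.mem_iff (q := 2) hle (k := 5) D4.cls5 (by decide +kernel) D4.L_eqs.2.2.2.2.1
  have c6 := D4.mem_iff (q := 2) hle (k := 6) Nodes.RGDTwD4.cls0 (by decide +kernel) D4.L_eqs.2.2.2.2.2
  have hrt : ∀ k, k < chevD4.nroots → IsRoot D4.cs Nodes.RGDTwD4.isCartan (V chevD4 Nodes.RGDTwD4.J k) :=
    fun k hk => (D4.isRoot_iff' _).2 ⟨k, hk, rfl⟩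
  -- `V_J = Q`
  have hVQ : VJ D4.cs Nodes.RGDTwD4.isCartan (Nodes.RGDTwD4.X φ 2) {1} = S.Q := by
    apply le_antisymm
    · refine RGD.Sup_le fun z hz => ?_
      obtain ⟨hz1, hz2, j, hj, hj0⟩ := hz
      obtain ⟨k, hk, rfl⟩ := (D4.isRoot_iff' z).1 hz1
      intro g hg
      rcases D4.pos_cases k hk hz2 with e | e | e | e | e | e
      · rw [e, c6] at hg
        obtain ⟨t, ht, rfl⟩ := (H.mem6 g).1 hg
        exact S.m6 ht
      · exfalso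
        rw [e] at hj0
        have h5 : (sr 1 : Fin 2 → ℤ) j = 0 := Pi.single_eq_of_ne (by simpa using hj) _
        omega
      · rw [e, c2] at hg
        obtain ⟨t, ht, rfl⟩ := (H.mem2 g).1 hg
        exact S.m2 ht
      · rw [e, c3] at hg
        obtain ⟨t, rfl⟩ := (H.mem3 g).1 hg
        exact S.m3
      · rw [e, c4] at hg
        obtain ⟨t, ht, rfl⟩ := (H.mem4 g).1 hg
        exact S.m4 ht
      · rw [e, c5] at hg
        obtain ⟨t, rfl⟩ := (H.mem5 g).1 hg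
        exact S.m5
    · have hV : ∀ k, k = 22 ∨ k = 17 ∨ k = 23 ∨ k = 19 → Nodes.RGDTwD4.X φ 2 (V chevD4 Nodes.RGDTwD4.J k) ≤
          VJ D4.cs Nodes.RGDTwD4.isCartan (Nodes.RGDTwD4.X φ 2) {1} := by
        intro k hk
        obtain ⟨h5, h6, h7⟩ := pos0 k hk
        exact RGD.le_Sup (S := NotJ D4.cs Nodes.RGDTwD4.isCartan {1}) ⟨hrt k h5, h6, 0, by simp, h7⟩
      have h0 : Nodes.RGDTwD4.X φ 2 (sr 0) ≤ VJ D4.cs Nodes.RGDTwD4.isCartan (Nodes.RGDTwD4.X φ 2) {1} :=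
        RGD.le_Sup (S := NotJ D4.cs Nodes.RGDTwD4.isCartan {1})
          ⟨isRoot_sr _ _ 0, sr_nonneg 0, 0, by simp, by decide⟩
      refine S.Q_le (fun t ht => hV 22 (by simp) ((c2 _).2 ((H.mem2 _).2 ⟨t, ht, rfl⟩)))
        (fun t => hV 17 (by simp) ((c3 _).2 ((H.mem3 _).2 ⟨t, rfl⟩)))
        (fun t ht => hV 23 (by simp) ((c4 _).2 ((H.mem4 _).2 ⟨t, ht, rfl⟩)))
        (fun t => hV 19 (by simp) ((c5 _).2 ((H.mem5 _).2 ⟨t, rfl⟩)))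
        (fun t ht => h0 ((c6 _).2 ((H.mem6 _).2 ⟨t, ht, rfl⟩)))
  -- conjugation by the reflections
  have hz2 : TwD4Par.ev (K := K) (q := 2) TwD4Rel.X2 0 = 1 := S.z2
  have hz6 : TwD4Par.ev (K := K) (q := 2) TwD4Rel.X6 0 = 1 := S.z6
  have hn2 : TwD4Par.ev (K := K) (q := 2) TwD4Rel.X2 1 ≠ 1 :=
    fun h => one_ne_zero (H.inj2 _ _ hs1 hs0 (h.trans hz2.symm))
  have hcj1 : ∀ {g x : ↥(twistedD4 K 2)}, g * x * g⁻¹ = 1 → x = 1 := by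
    intro g x h
    rw [mul_inv_eq_one] at h
    calc x = g⁻¹ * (g * x) := by group
      _ = 1 := by rw [h, inv_mul_cancel]
  have w2 : Nodes.RGDTwD4.n hφ 1 * TwD4Par.ev TwD4Rel.X2 1 * (Nodes.RGDTwD4.n hφ 1)⁻¹ = TwD4Par.ev TwD4Rel.X6 1 := by
    have h5 := R.conj_mem (rp_simple D4.cs R.nsys 1) (hrt 22 (pos0 22 (by simp)).1)
      ((c2 _).2 ((H.mem2 _).2 ⟨1, hs1, rfl⟩))
    rw [rep22, c6, H.mem6] at h5
    obtain ⟨a, ha, h6⟩ := h5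
    rcases hf2 a ha with rfl | rfl
    · exact absurd (hcj1 (h6.symm.trans hz6)) hn2
    · exact h6.symm
  have w4 : Nodes.RGDTwD4.n hφ 1 * TwD4Par.ev TwD4Rel.X4 1 * (Nodes.RGDTwD4.n hφ 1)⁻¹ = TwD4Par.ev TwD4Rel.X4 1 := by
    have h5 := R.conj_mem (rp_simple D4.cs R.nsys 1) (hrt 23 (pos0 23 (by simp)).1)
      ((c4 _).2 ((H.mem4 _).2 ⟨1, hs1, rfl⟩))
    rw [rep23, c4, H.mem4] at h5
    obtain ⟨a, ha, h6⟩ := h5
    rcases hf2 a ha with rfl | rfl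
    · exact absurd (hcj1 (h6.symm.trans hz4)) S.ne4
    · exact h6.symm
  have k4 : Nodes.RGDTwD4.n hφ 0 * TwD4Par.ev TwD4Rel.X4 1 * (Nodes.RGDTwD4.n hφ 0)⁻¹ = TwD4Par.ev TwD4Rel.X2 1 := by
    have h5 := R.conj_mem (rp_simple D4.cs R.nsys 0) (hrt 23 (pos0 23 (by simp)).1)
      ((c4 _).2 ((H.mem4 _).2 ⟨1, hs1, rfl⟩))
    rw [rep23', c2, H.mem2] at h5
    obtain ⟨a, ha, h6⟩ := h5
    rcases hf2 a ha with rfl | rfl
    · exact absurd (hcj1 (h6.symm.trans hz2)) S.ne4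
    · exact h6.symm
  have hkz : TwD4Par.ev (K := K) (q := 2) TwD4Rel.X2 1 ≠ TwD4Par.ev TwD4Rel.X4 1 := by
    intro h
    rw [S.FF2, S.FF4] at h
    exact one_ne_zero (S.FF_inj hs1 hs0 hs0 hs0 hs0 hs1 h).1
  -- the `SL₂(8)`
  have hX1 : Nodes.RGDTwD4.X φ 2 (sr 1) ≤ PJ D4.cs Nodes.RGDTwD4.isCartan (Nodes.RGDTwD4.T K 2)
      (Nodes.RGDTwD4.X φ 2) {1} :=
    (X_le_LJ ⟨isRoot_sr _ _ 1, fun k hk => Pi.single_eq_of_ne (by simpa using hk) _⟩).trans LJ_le_PJ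
  have hX1n : Nodes.RGDTwD4.X φ 2 (-sr 1) ≤ PJ D4.cs Nodes.RGDTwD4.isCartan (Nodes.RGDTwD4.T K 2)
      (Nodes.RGDTwD4.X φ 2) {1} := by
    refine (X_le_LJ ⟨(isRoot_sr _ _ 1).neg, fun k hk => ?_⟩).trans LJ_le_PJ
    rw [Pi.neg_apply, neg_eq_zero]
    exact Pi.single_eq_of_ne (by simpa using hk) _
  have hrP : (D4.Ph hφ hle 1).range ≤ PJ D4.cs Nodes.RGDTwD4.isCartan (Nodes.RGDTwD4.T K 2)
      (Nodes.RGDTwD4.X φ 2) {1} := by
    rintro _ ⟨A, rfl⟩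
    have h2 : Subgroup.closure (Set.range up ∪ Set.range lo) ≤
        (PJ D4.cs Nodes.RGDTwD4.isCartan (Nodes.RGDTwD4.T K 2) (Nodes.RGDTwD4.X φ 2) {1}).comap (D4.Ph hφ hle 1) := by
      rw [Subgroup.closure_le]
      rintro _ (⟨a, rfl⟩ | ⟨a, rfl⟩)
      · exact hX1 ((D4.mem_X hφ hle 1 _).2 ⟨a, rfl⟩)
      · rw [SetLike.mem_coe, mem_comap, Nodes.RGDFoldSL.lo_eq, map_mul, map_mul, map_inv, D4.Ph_wS]
        have h3 := R.conj_mem (rp_simple D4.cs R.nsys 1) (isRoot_sr _ _ 1) ((D4.mem_X hφ hle 1 _).2 ⟨-a, rfl⟩)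
        rw [rep_simple_sr] at h3
        exact hX1n h3
    exact h2 (mem_closure_SL2 A)
  have hm1 : ∀ c, TwD4Par.ev (TwD4Rel.X1 σ) c ∈ (D4.Ph hφ hle 1).range := by
    intro c
    obtain ⟨a, ha⟩ := (D4.mem_X hφ hle 1 _).1 ((c1 _).2 ((H.mem1 _).2 ⟨c, rfl⟩))
    exact ⟨up a, ha.symm⟩
  have hFx : Nat.card (Fx φ ((Nodes.RGDTwNode.D4.rest 1).length + 1)) = 8 := by
    have h5 : ∀ a : K, a ∈ Fx φ ((Nodes.RGDTwNode.D4.rest 1).length + 1) := fun a => mem_Fx.2 (h3 a)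
    rw [Nat.card_congr (Equiv.subtypeUnivEquiv h5), Nat.card_eq_fintype_card, hK]
    norm_num
  have N : Nd S (PJ D4.cs Nodes.RGDTwD4.isCartan (Nodes.RGDTwD4.T K 2) (Nodes.RGDTwD4.X φ 2) {1})
      (D4.Ph hφ hle 1) (Nodes.RGDTwD4.n hφ 1) := by
    refine ⟨?_, hFx, Subtype.ext h20, ?_, ?_, hrP, hm1, ⟨_, D4.Ph_wS hφ hle 1⟩, w2, w4⟩
    · rw [Nat.card_eq_fintype_card, hK]
      norm_num
    · rw [← hVQ]
      exact VJ_le_PJ
    · intro g hg q hq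
      rw [← hVQ] at hq ⊢
      exact (mem_normalizer_iff.1 (PJ_le_normalizer_VJ R _ hg) q).1 hq
  have hfinY : Finite ↥(twistedD4 K 2) := inferInstance
  refine ⟨PJ D4.cs Nodes.RGDTwD4.isCartan (Nodes.RGDTwD4.T K 2) (Nodes.RGDTwD4.X φ 2) {1}, S.Q,
    RGD.Sup (Nodes.RGDTwD4.X φ 2) (Pos D4.cs Nodes.RGDTwD4.isCartan), ?_⟩
  refine ⟨PJ_ne_top R (J := {1}) ?_, U_le_B.trans B_le_PJ, R.isPGroup_Upos, ?_, ?_, ?_⟩
  · intro h
    have h5 : (0 : Fin 2) ∈ ({1} : Set (Fin 2)) := h ▸ Set.mem_univ _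
    simp at h5
  · have h1 := KFacts.RgdSyl.not_dvd_relIndex R
    rwa [hG, relIndex_top_right] at h1
  · intro N' hN' h
    rw [← hVQ]
    exact le_VJ R hG hN' h
  · intro M _ _ _ sq faith A hA hge el h2
    exact N.false sq faith (k := Nodes.RGDTwD4.n hφ 0) (by rw [k4]; exact S.m2 hs1) (by rw [k4]; exact hkz) hA hge el h2

end Cfsg.Agent.Omega.ML.Ex.DFour
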